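import Groth.Agent.GrpAff.Kernel
import Groth.Agent.GrpdLib.DenseQuot
import Groth.Agent.GrpScheme.RatDense
import Groth.Agent.RedSub.Basic
import Groth.Agent.GrpScheme.GlobalSections
import Groth.Agent.GrpScheme.FlatFib.Scheme

/-!
# Groups with constant functions over an algebraically closed field are reduced
-/

set_option autoImplicit false
set_option linter.style.haveILetI false
set_option backward.isDefEq.respectTransparency false

universe u

open CategoryTheory MonoidalCategory CartesianMonoidalCategory MonObj GrpObj AlgebraicGeometry Limits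

noncomputable section

namespace Groth.Agent.GrpAff

variable {k : Type u} [Field k]

local notation "Sk" => Spec (CommRingCat.of k)

/-- A rational point at a closed point. -/
lemma exists_point [IsAlgClosed k] (X : Over (Spec (CommRingCat.of k))) [LocallyOfFiniteType X.hom]
    {x : X.left} (hx : IsClosed {x}) :
    ∃ p : 𝟙_ (Over Sk) ⟶ X, ∀ q : Sk, p.left q = x := by
  refine ⟨Over.homMk _ ((pointEquivClosedPoint X.hom).symm ⟨x, hx⟩).2, fun q => ?_⟩
  rw [Subsingleton.elim (α := PrimeSpectrum k) q (IsLocalRing.closedPoint k)]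
  exact pointOfClosedPoint_apply X.hom x hx _

lemma dense_ratPoints [IsAlgClosed k] (X : Over (Spec (CommRingCat.of k))) [LocallyOfFiniteType X.hom] :
    Dense (GrpScheme.RatDense.ratPoints X.hom) := by
  haveI := LocallyOfFiniteType.jacobsonSpace X.hom
  refine (dense_iff_closure_eq.mpr (closure_closedPoints (X := X.left))).mono fun x hx => ?_
  obtain ⟨p, hp⟩ := exists_point X hx
  exact ⟨p.left, Over.w p, hp _⟩

lemma exists_lift_univ {T X Z : Over (Spec (CommRingCat.of k))} [IsReduced T.left] (j : Z ⟶ X)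
    [IsClosedImmersion j.left] (hj : Function.Surjective j.left) (f : T ⟶ X) : ∃ g : T ⟶ Z, g ≫ j = f := by
  obtain ⟨g, hg⟩ := RedSub.exists_lift_closed j.left f.left (by rw [hj.range_eq]; exact Set.subset_univ _)
  exact ⟨Over.homMk g (by rw [← Over.w j, reassoc_of% hg, Over.w]), Over.OverMorphism.ext hg⟩

theorem isReduced_of_antiAffine [IsAlgClosed k] (G : Over (Spec (CommRingCat.of k))) [GrpObj G]
    [LocallyOfFiniteType G.hom] [QuasiCompact G.hom] [IsIso G.hom.appTop] : IsReduced G.left := by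
  haveI : IsSeparated G.hom := GrpdLib.GrpOver.isSeparated_hom G
  haveI := LocallyOfFiniteType.jacobsonSpace G.hom
  -- the reduced subgroup
  let I := Scheme.IdealSheafData.vanishingIdeal (⊤ : TopologicalSpace.Closeds G.left)
  let R : Over Sk := Over.mk (I.subschemeι ≫ G.hom)
  let i : R ⟶ G := Over.homMk I.subschemeι rfl
  haveI hi : IsClosedImmersion i.left := inferInstanceAs (IsClosedImmersion I.subschemeι)
  haveI : Mono i := Over.mono_of_mono_left i
  have his : Function.Surjective i.left := fun x => by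
    have : x ∈ Set.range I.subschemeι := by rw [RedSub.range_vanishingIdeal_subschemeι]; trivial
    exact this
  haveI hRred : IsReduced R.left := inferInstanceAs (IsReduced I.subscheme)
  haveI : LocallyOfFiniteType R.hom := inferInstanceAs (LocallyOfFiniteType (I.subschemeι ≫ G.hom))
  haveI : QuasiCompact R.hom := inferInstanceAs (QuasiCompact (I.subschemeι ≫ G.hom))
  haveI : IsReduced (R ⊗ R).left := GrpScheme.RatDense.isReduced_pullback R.hom (dense_ratPoints R) R.hom
  haveI : IsReduced (𝟙_ (Over Sk)).left := inferInstanceAs (IsReduced Sk)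
  obtain ⟨hR, hiM⟩ := GrpScheme.SubgroupObj.exists_grpObj i (exists_lift_univ i his _)
    (exists_lift_univ i his _) (exists_lift_univ i his _)
  haveI : IsMonHom i := hiM
  haveI : Surjective R.hom := ⟨fun s => ⟨(η[R]).left s, congr($(Over.w η[R]) s)⟩⟩
  -- the relation
  let s : G ⊗ R ⟶ G := fst G R
  let t : G ⊗ R ⟶ G := (G ◁ i) ≫ μ[G]
  have ht : t = fst G R * (snd G R ≫ i) := by
    rw [Hom.mul_def]
    refine congrArg (· ≫ μ[G]) (CartesianMonoidalCategory.hom_ext _ _ ?_ ?_) <;> simp
  have hrt : ∀ {T : Over Sk} (r : T ⟶ G ⊗ R), r ≫ t = (r ≫ s) * (r ≫ snd G R ≫ i) := fun r => by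
    rw [ht, MonObj.comp_mul]
  have hmk : ∀ {T : Over Sk} (b : T ⟶ G) (z : T ⟶ R), lift b z ≫ t = b * (z ≫ i) := fun b z => by
    rw [hrt, lift_fst, lift_snd_assoc]
  have hrel : ∀ {T : Over Sk} (a b : T ⟶ G),
      (∃ r : T ⟶ G ⊗ R, r ≫ t = a ∧ r ≫ s = b) ↔ ∃ z : T ⟶ R, z ≫ i = b⁻¹ * a := fun a b =>
    ⟨fun ⟨r, h1, h2⟩ => ⟨r ≫ snd G R, by rw [← h1, hrt, h2, inv_mul_cancel_left, Category.assoc]⟩,
      fun ⟨z, hz⟩ => ⟨lift b z, by rw [hmk, hz, mul_inv_cancel_left], lift_fst _ _⟩⟩
  have heq : _root_.AlgSp.IsEqvRel s t := by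
    refine ⟨fun T r r' h1 h2 => ?_, fun T => ⟨fun a => (hrel a a).2 ⟨1, ?_⟩, fun {a b} h => ?_, fun {a b c} h h' => ?_⟩⟩
    · refine CartesianMonoidalCategory.hom_ext _ _ h2 ?_
      rw [hrt, hrt, h2] at h1
      rw [← cancel_mono i]
      simpa [Category.assoc] using mul_left_cancel h1
    · rw [MonObj.one_comp, inv_mul_cancel]
    · obtain ⟨z, hz⟩ := (hrel a b).1 h
      exact (hrel b a).2 ⟨z⁻¹, by rw [GrpObj.inv_comp, hz, _root_.mul_inv_rev, _root_.inv_inv]⟩
    · obtain ⟨z, hz⟩ := (hrel a b).1 h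
      obtain ⟨z', hz'⟩ := (hrel b c).1 h'
      exact (hrel a c).2 ⟨z' * z, by rw [MonObj.mul_comp, hz, hz']; group⟩
  haveI : Flat s.left := inferInstanceAs (Flat (pullback.fst G.hom R.hom))
  haveI : Surjective s.left := inferInstanceAs (Surjective (pullback.fst G.hom R.hom))
  haveI : LocallyOfFinitePresentation R.hom := inferInstance
  haveI : LocallyOfFinitePresentation s.left :=
    inferInstanceAs (LocallyOfFinitePresentation (pullback.fst G.hom R.hom))
  have hqc : QuasiCompact (prod.lift t s).left := by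
    let e : G ⨯ G ≅ G ⊗ G := ⟨lift prod.fst prod.snd, prod.lift (fst G G) (snd G G),
      by ext <;> simp, by ext <;> simp⟩
    have he : prod.lift t s = lift t s ≫ e.inv := by ext <;> simp [e]
    haveI : IsIso e.inv.left := ((Over.forget Sk).mapIso e).isIso_inv
    haveI : IsSeparated (G ⊗ G).hom := inferInstanceAs (IsSeparated (pullback.fst G.hom G.hom ≫ G.hom))
    haveI : QuasiCompact (G ⊗ R).hom := inferInstanceAs (QuasiCompact (pullback.fst G.hom R.hom ≫ G.hom))
    haveI : QuasiCompact ((lift t s).left ≫ (G ⊗ G).hom) := by rw [Over.w]; infer_instance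
    haveI : QuasiCompact (lift t s).left := QuasiCompact.of_comp _ (G ⊗ G).hom
    rw [he, Over.comp_left]
    infer_instance
  obtain ⟨W, g, V, p, hg, hdense, hinv, hpf, hps, hpl, hpker, hVqs⟩ :=
    GrpdLib.DenseQuot.exists_dense_open_quotient heq hqc
  -- the open is everything
  haveI : Nonempty G.left := ⟨(η[G]).left (IsLocalRing.closedPoint k)⟩
  obtain ⟨w, hw, hwc⟩ := nonempty_inter_closedPoints hdense.nonempty
    g.left.isOpenEmbedding.isOpen_range.isLocallyClosed
  obtain ⟨p₀, hp₀⟩ := exists_point G hwc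
  have hlift : ∀ (q : 𝟙_ (Over Sk) ⟶ G), (∀ z, q.left z ∈ Set.range g.left) → ∃ a, a ≫ g = q := fun q hq => by
    refine ⟨Over.homMk (IsOpenImmersion.lift g.left q.left (Set.range_subset_iff.2 hq))
      (by rw [← Over.w g, IsOpenImmersion.lift_fac_assoc, Over.w]), Over.OverMorphism.ext (IsOpenImmersion.lift_fac _ _ _)⟩
  obtain ⟨a₀, ha₀⟩ := hlift p₀ fun z => by rw [hp₀]; exact hw
  have hpts : ∀ q : 𝟙_ (Over Sk) ⟶ G, ∃ a, a ≫ g = q := fun q => by
    obtain ⟨z, hz⟩ := exists_lift_univ i his (p₀⁻¹ * q)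
    obtain ⟨r, h1, h2⟩ := (hrel q p₀).2 ⟨z, hz⟩
    obtain ⟨a, ha⟩ := (hinv _ r).2 ⟨a₀, ha₀.trans h2.symm⟩
    exact ⟨a, ha.trans h1⟩
  haveI : IsIso g.left := by
    refine (isIso_iff_isOpenImmersion_and_epi_base _).2 ⟨hg, (TopCat.epi_iff_surjective _).2 fun x => ?_⟩
    by_contra hx
    obtain ⟨y, hy, hyc⟩ := nonempty_inter_closedPoints (Z := (Set.range g.left)ᶜ) ⟨x, hx⟩
      g.left.isOpenEmbedding.isOpen_range.isClosed_compl.isLocallyClosed
    obtain ⟨q, hq⟩ := exists_point G hyc
    obtain ⟨a, ha⟩ := hpts q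
    exact hy ⟨a.left (IsLocalRing.closedPoint k), by
      rw [← hq (IsLocalRing.closedPoint k), ← ha]; rfl⟩
  haveI : IsIso ((Over.forget Sk).map g) := ‹IsIso g.left›
  haveI : IsIso g := isIso_of_reflects_iso _ (Over.forget Sk)
  let π : G ⟶ V := inv g ≫ p
  have hπker : ∀ {T : Over Sk} (a b : T ⟶ G), a ≫ π = b ≫ π ↔ ∃ z : T ⟶ R, z ≫ i = b⁻¹ * a := by
    intro T a b
    rw [← hrel, show a ≫ π = (a ≫ inv g) ≫ p from (Category.assoc _ _ _).symm,
      show b ≫ π = (b ≫ inv g) ≫ p from (Category.assoc _ _ _).symm, hpker]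
    simp
  haveI : IsIso (inv g).left := inferInstanceAs (IsIso ((Over.forget _).map (inv g)))
  haveI : Flat π.left := by haveI := hpf; rw [Over.comp_left]; infer_instance
  haveI : Surjective π.left := by haveI := hps; rw [Over.comp_left]; infer_instance
  haveI : LocallyOfFinitePresentation π.left := by haveI := hpl; rw [Over.comp_left]; infer_instance
  haveI : LocallyOfFinitePresentation V.hom := by
    haveI : LocallyOfFinitePresentation (π.left ≫ V.hom) := by rw [Over.w]; infer_instance
    exact GrpdLib.FppfSourceDescent.locallyOfFinitePresentation_of_comp_fppf π.left _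
  haveI := LocallyOfFiniteType.jacobsonSpace V.hom
  -- the quotient is a point
  let v₀ : V.left := π.left ((η[G]).left (IsLocalRing.closedPoint k))
  have hclosed : ∀ v : V.left, IsClosed {v} → v = v₀ := by
    intro v hv
    obtain ⟨x, hx, hxc⟩ := nonempty_inter_closedPoints (Z := π.left ⁻¹' {v})
      (π.left.surjective v |>.imp fun x hx => hx) (hv.preimage π.left.continuous).isLocallyClosed
    obtain ⟨q, hq⟩ := exists_point G hxc
    have h := (hπker q η[G]).2 (exists_lift_univ i his _)
    have := congr(($h).left (IsLocalRing.closedPoint k))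
    simp only [Over.comp_left, Scheme.Hom.comp_apply] at this
    rw [hq] at this
    exact (show π.left x = v from hx).symm.trans this
  have hv₀ : IsClosed {v₀} := by
    obtain ⟨v, -, hv⟩ := nonempty_inter_closedPoints (X := V.left) (Z := Set.univ) ⟨v₀, trivial⟩ isClosed_univ.isLocallyClosed
    rwa [← hclosed v hv]
  haveI : Subsingleton V.left := ⟨fun a b => by
    have : ∀ a : V.left, a = v₀ := fun a => by
      by_contra ha
      obtain ⟨v, hv, hvc⟩ := nonempty_inter_closedPoints (Z := ({v₀} : Set V.left)ᶜ) ⟨a, ha⟩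
        hv₀.isOpen_compl.isLocallyClosed
      exact hv (hclosed v hvc)
    rw [this a, this b]⟩
  haveI : IsAffine V.left := by
    obtain ⟨U, hU, hvU, -⟩ := exists_isAffineOpen_mem_and_subset (X := V.left) (x := v₀) (U := ⊤) trivial
    have : U = ⊤ := top_le_iff.mp fun v _ => by rw [Subsingleton.elim v v₀]; exact hvU
    subst this
    haveI : IsAffine ((⊤ : V.left.Opens) : Scheme) := hU
    exact IsAffine.of_isIso V.left.topIso.inv
  haveI : QuasiCompact π.left := by
    haveI : QuasiCompact (π.left ≫ V.hom) := by rw [Over.w]; infer_instance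
    exact QuasiCompact.of_comp π.left V.hom
  haveI : IsIso V.hom := by
    haveI : Mono π.left.appTop := ConcreteCategory.mono_of_injective _ (GrpScheme.GlobalSections.appTop_injective π.left)
    have h : V.hom.appTop ≫ π.left.appTop = G.hom.appTop := by rw [← Scheme.Hom.comp_appTop, Over.w]
    haveI : IsSplitEpi π.left.appTop := IsSplitEpi.mk' ⟨inv G.hom.appTop ≫ V.hom.appTop, by
      rw [Category.assoc, h, IsIso.inv_hom_id]⟩
    haveI : IsIso π.left.appTop := isIso_of_mono_of_isSplitEpi _
    haveI : IsIso (V.hom.appTop ≫ π.left.appTop) := by rw [h]; infer_instance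
    haveI : IsIso V.hom.appTop := IsIso.of_isIso_comp_right _ π.left.appTop
    rw [show V.hom = V.left.isoSpec.hom ≫ Spec.map V.hom.appTop ≫ (Sk).isoSpec.inv by
      rw [← Category.assoc, Iso.eq_comp_inv]
      exact Scheme.toSpecΓ_naturality V.hom]
    infer_instance
  have hall : (𝟙 G) ≫ π = 1 ≫ π := Over.OverMorphism.ext (by rw [← cancel_mono V.hom, Over.w, Over.w])
  obtain ⟨z, hz⟩ := (hπker _ _).1 hall
  rw [inv_one, _root_.one_mul] at hz
  haveI : IsSplitEpi i.left := IsSplitEpi.mk' ⟨z.left, by rw [← Over.comp_left, hz]; rfl⟩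
  haveI : IsIso i.left := isIso_of_mono_of_isSplitEpi _
  exact isReduced_of_isOpenImmersion (inv i.left)

end Groth.Agent.GrpAff
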