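import Groth.Agent.GrpAff.Reduced
import Groth.Agent.GrpScheme.Smooth
import Groth.Agent.S19702

/-!
# Groups with only constant functions are smooth
-/

set_option autoImplicit false
set_option linter.style.haveILetI false

universe u

open CategoryTheory MonoidalCategory CartesianMonoidalCategory MonObj GrpObj AlgebraicGeometry Limits

namespace Groth.Agent.GrpAff

variable {k : Type u} [Field k]

theorem smooth_of_antiAffine (G : Over (Spec (CommRingCat.of k))) [GrpObj G] [LocallyOfFiniteType G.hom]
    [QuasiCompact G.hom] (h : IsIso G.hom.appTop) : Smooth G.hom := by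
  let Ω : Type u := AlgebraicClosure k
  let g : Spec (.of Ω) ⟶ Spec (.of k) := Spec.map (CommRingCat.ofHom <| algebraMap k Ω)
  haveI : LocallyOfFiniteType (Red.bc g G).hom := inferInstanceAs (LocallyOfFiniteType (pullback.snd G.hom g))
  haveI : QuasiCompact (Red.bc g G).hom := inferInstanceAs (QuasiCompact (pullback.snd G.hom g))
  haveI : IsIso (Red.bc g G).hom.appTop := (GrpScheme.AntiAffine.bijective_iff_isIso _).1
    ((Groth.Agent.S19702.result k Ω G).1 ((GrpScheme.AntiAffine.bijective_iff_isIso G).2 h))
  haveI := isReduced_of_antiAffine (Red.bc g G)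
  haveI hs : Smooth (Red.bc g G).hom := GrpScheme.Smooth.smooth_of_perfectField _
  exact MorphismProperty.of_pullback_snd_of_descendsAlong
    (Q := @Surjective ⊓ @Flat ⊓ @QuasiCompact) (g := g) ⟨⟨inferInstance, inferInstance⟩, inferInstance⟩ hs

end Groth.Agent.GrpAff
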