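import Groth.Agent.GrpAff.Hull
import Groth.Agent.AffGrp.Bridge
import Groth.Agent.HopfSub.Basic
import Groth.Agent.HopfPts.Basic
import Groth.Agent.UnipLib.FppfDesc
import Groth.Agent.GrpdLib.MonoClosedField
import Groth.Agent.S4094

/-!
# The map of an algebraic group to its affine hull is faithfully flat, and the hull is of finite type
-/

set_option autoImplicit false
set_option linter.style.haveILetI false
set_option backward.isDefEq.respectTransparency false

universe u

open CategoryTheory MonoidalCategory CartesianMonoidalCategory MonObj GrpObj AlgebraicGeometry Limits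

noncomputable section

namespace Groth.Agent.GrpAff

open UnipLib (Cover)

variable {k : Type u} [Field k]

local notation "Sk" => Spec (CommRingCat.of k)

/-- `Spec` of a map of Hopf algebras. -/
def specHom {A C : Type u} [CommRing A] [CommRing C] [HopfAlgebra k A] [HopfAlgebra k C] (π : C →ₐc[k] A) :
    (Spec (CommRingCat.of A)).asOver Sk ⟶ (Spec (CommRingCat.of C)).asOver Sk :=
  ((hopfSpec (CommRingCat.of k)).map (CommHopfAlgCat.ofHom π).op).hom.hom

instance isMonHom_specHom {A C : Type u} [CommRing A] [CommRing C] [HopfAlgebra k A] [HopfAlgebra k C]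
    (π : C →ₐc[k] A) : IsMonHom (specHom π) :=
  ((hopfSpec (CommRingCat.of k)).map (CommHopfAlgCat.ofHom π).op).hom.isMonHom_hom

lemma specHom_left {A C : Type u} [CommRing A] [CommRing C] [HopfAlgebra k A] [HopfAlgebra k C] (π : C →ₐc[k] A) :
    (specHom π).left = Spec.map (CommRingCat.ofHom (π : C →+* A)) := rfl

/-- A schematically dominant homomorphism to an affine algebraic group is faithfully flat. -/
theorem cover_of_ker_eq_bot {G H : Over (Spec (CommRingCat.of k))} [GrpObj G] [GrpObj H] [IsAffine H.left]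
    [LocallyOfFiniteType G.hom] [QuasiCompact G.hom] [LocallyOfFiniteType H.hom]
    (u : G ⟶ H) [IsMonHom u] (hu : u.left.ker = ⊥) : Cover u := by
  haveI : LocallyOfFinitePresentation G.hom := inferInstance
  haveI : QuasiCompact (u.left ≫ H.hom) := by rw [Over.w u]; infer_instance
  haveI : QuasiCompact u.left := QuasiCompact.of_comp u.left H.hom
  obtain ⟨Q, hQ, p, i, hp, hi, hpi, hsurj, hflat, -, hmono, hQlfp, -⟩ :=
    Groth.Agent.S4094.result _ G H u inferInstance
  haveI : CompactSpace Q.left := ⟨by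
    rw [← Set.image_univ_of_surjective hsurj.surj]
    exact isCompact_univ.image p.left.continuous⟩
  haveI : QuasiCompact Q.hom := (quasiCompact_iff_compactSpace Q.hom).2 inferInstance
  haveI := GrpdLib.MonoClosedField.isClosedImmersion H Q i
  haveI : IsIso i.left := by
    refine IsClosedImmersion.isIso_iff_ker_eq_bot.mpr (eq_bot_iff.mpr ?_)
    rw [← hu, ← hpi, Over.comp_left]
    exact Scheme.Hom.le_ker_comp _ _
  refine ⟨?_, ?_, inferInstance⟩
  · rw [← hpi, Over.comp_left]; infer_instance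
  · rw [← hpi, Over.comp_left]; infer_instance

lemma ker_spec_of_injective {C A : CommRingCat.{u}} (f : C ⟶ A) (hf : Function.Injective f.hom) :
    (Spec.map f).ker = ⊥ := by
  rw [Scheme.ker_of_isAffine]
  refine Scheme.IdealSheafData.ext_of_isAffine ?_
  simp only [Scheme.IdealSheafData.ofIdealTop_ideal, Scheme.IdealSheafData.ideal_bot, Pi.bot_apply]
  have hi : Function.Injective (Spec.map f).appTop := by
    intro x y h
    apply (Scheme.ΓSpecIso C).commRingCatIsoToRingEquiv.injective
    apply hf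
    have h' := congrArg (Scheme.ΓSpecIso A).hom h
    rwa [← CommRingCat.comp_apply, ← CommRingCat.comp_apply, Scheme.ΓSpecIso_naturality,
      CommRingCat.comp_apply, CommRingCat.comp_apply] at h'
  rw [(RingHom.injective_iff_ker_eq_bot _).mp hi]
  simp

/-- Two faithfully flat quotients with the same kernel agree. -/
theorem isIso_of_kernel_le {G P Q : Over (Spec (CommRingCat.of k))} [GrpObj G] [GrpObj P] [GrpObj Q]
    {p : G ⟶ P} {q : G ⟶ Q} [IsMonHom p] (hp : Cover p) (hq : Cover q) (t : P ⟶ Q) [IsMonHom t]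
    (hpt : p ≫ t = q) (hk : ∀ {T : Over (Spec (CommRingCat.of k))} (z : T ⟶ G), z ≫ q = 1 → z ≫ p = 1) :
    IsIso t := by
  have hker : ∀ {T : Over Sk} (y : T ⟶ P), y ≫ t = 1 → y = 1 := by
    intro T y hy
    obtain ⟨T', r, z, hr, hz⟩ := hp.exists_cover y
    have h1 : z ≫ q = 1 := by rw [← hpt, ← Category.assoc, hz, Category.assoc, hy, MonObj.comp_one]
    haveI := hr.epi
    rw [← cancel_epi r, MonObj.comp_one, ← hz, hk z h1]
  haveI : Mono t := ⟨fun {T} y y' h => by
    have := hker (y * y'⁻¹) (by rw [MonObj.mul_comp, GrpObj.inv_comp, h, mul_inv_cancel])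
    exact mul_inv_eq_one.mp this⟩
  obtain ⟨g, hg⟩ := hq.exists_desc p fun b b' hb => by
    rw [← cancel_mono t, Category.assoc, Category.assoc, hpt, hb]
  haveI := hp.epi
  haveI := hq.epi
  exact ⟨g, by rw [← cancel_epi p, ← Category.assoc, hpt, hg, Category.comp_id],
    by rw [← cancel_epi q, ← Category.assoc, hg, hpt, Category.comp_id]⟩

set_option maxHeartbeats 1000000 in
theorem cover_toHull (G : Over (Spec (CommRingCat.of k))) [GrpObj G] [LocallyOfFiniteType G.hom]
    [QuasiCompact G.hom] : Cover (toHull G) ∧ LocallyOfFiniteType (hull G).hom := by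
  classical
  obtain ⟨A, hA, e, he⟩ := AffGrp.Bridge.exists_iso (R := CommRingCat.of k) (hull G)
  haveI : IsMonHom e.inv := inferInstance
  let a : G ⟶ (Spec A).asOver Sk := toHull G ≫ e.inv
  haveI : IsMonHom a := inferInstance
  haveI : IsSeparated G.hom := GrpdLib.GrpOver.isSeparated_hom G
  have hka : a.left.ker = ⊥ := by
    show (G.left.toSpecΓ ≫ (e.inv.left : Spec Γ(G.left, ⊤) ⟶ _)).ker = ⊥
    rw [Scheme.Hom.ker_comp, Scheme.ker_toSpecΓ, Scheme.IdealSheafData.map_bot]
    exact Scheme.Hom.ker_eq_bot_of_isIso e.inv.left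
  let S := {C : Subalgebra k A // SGA3.IsHopfSubalgebra k A C ∧ C.FG}
  letI hopf : ∀ C : S, HopfAlgebra k C.1 := fun C => HopfSub.hopfAlgebra C.2.1
  let inc : ∀ C : S, C.1 →ₐc[k] A := fun C => HopfSub.incl C.2.1
  let p : ∀ C : S, G ⟶ (Spec (CommRingCat.of C.1)).asOver Sk := fun C => a ≫ specHom (inc C)
  have hft : ∀ C : S, LocallyOfFiniteType ((Spec (CommRingCat.of C.1)).asOver Sk).hom := fun C => by
    haveI : Algebra.FiniteType k C.1 := C.1.fg_iff_finiteType.mp C.2.2
    exact locallyOfFiniteType_specOverSpec (R := CommRingCat.of k) (A := CommRingCat.of C.1)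
  haveI haff : ∀ C : S, IsAffine ((Spec (CommRingCat.of C.1)).asOver Sk).left := fun C =>
    inferInstanceAs (IsAffine (Spec _))
  haveI hp : ∀ C : S, IsMonHom (p C) := fun C => inferInstance
  have hcov : ∀ C : S, Cover (p C) := fun C => by
    haveI := hft C
    refine cover_of_ker_eq_bot (p C) ?_
    rw [show (p C).left = a.left ≫ (specHom (inc C)).left from rfl, Scheme.Hom.ker_comp, hka,
      Scheme.IdealSheafData.map_bot, specHom_left]
    exact ker_spec_of_injective _ Subtype.val_injective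
  haveI : ∀ C : S, IsSeparated ((Spec (CommRingCat.of C.1)).asOver Sk).hom := fun C =>
    GrpdLib.GrpOver.isSeparated_hom _
  choose N hNg i hiM hiMono hiC hi1 hlift using fun C : S => UnipLib.exists_kernel_grp (p C)
  -- transition maps
  have htr : ∀ (C D : S) (h : C.1 ≤ D.1),
      ∃ t : (Spec (CommRingCat.of D.1)).asOver Sk ⟶ (Spec (CommRingCat.of C.1)).asOver Sk,
        IsMonHom t ∧ p D ≫ t = p C ∧
        t.left = Spec.map (CommRingCat.ofHom (Subalgebra.inclusion h).toRingHom) := by
    intro C D h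
    let t : (Spec (CommRingCat.of D.1)).asOver Sk ⟶ (Spec (CommRingCat.of C.1)).asOver Sk :=
      Over.homMk (Spec.map (CommRingCat.ofHom (Subalgebra.inclusion h).toRingHom)) (by
        show Spec.map _ ≫ Spec.map _ = Spec.map _
        rw [← Spec.map_comp]; rfl)
    have ht : p D ≫ t = p C := by
      refine Over.OverMorphism.ext ?_
      show (a.left ≫ (specHom (inc D)).left) ≫ Spec.map _ = a.left ≫ (specHom (inc C)).left
      rw [Category.assoc, specHom_left, specHom_left, ← Spec.map_comp]
      rfl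
    exact ⟨t, (hcov D).isMonHom t (by rw [ht]; infer_instance), ht, rfl⟩
  have hmono : ∀ (C D : S), C.1 ≤ D.1 → (i C).left.ker ≤ (i D).left.ker := by
    intro C D h
    obtain ⟨t, ht, hpt, -⟩ := htr C D h
    obtain ⟨z, hz⟩ := hlift C (i D) (by
      rw [← hpt, ← Category.assoc, hi1 D, MonObj.one_comp])
    rw [← hz, Over.comp_left]
    exact Scheme.Hom.le_ker_comp _ _
  let S₀ : S := ⟨(⊥ : Subalgebra k A), HopfPts.isHopf_bot (k := k), Subalgebra.fg_bot⟩
  have hsup : ∀ F : Finset S, ∃ D : S, ∀ C ∈ F, C.1 ≤ D.1 := by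
    intro F
    induction F using Finset.induction with
    | empty => exact ⟨S₀, by simp⟩
    | insert C F _ ih =>
      obtain ⟨D, hD⟩ := ih
      refine ⟨⟨C.1 ⊔ D.1, HopfPts.isHopf_sup C.2.1 D.2.1, C.2.2.sup D.2.2⟩, fun E hE => ?_⟩
      rcases Finset.mem_insert.mp hE with rfl | hE
      · exact le_sup_left
      · exact (hD E hE).trans le_sup_right
  haveI : IsLocallyNoetherian G.left := LocallyOfFiniteType.isLocallyNoetherian G.hom
  let 𝒰 := G.left.affineCover.finiteSubcover
  let U : 𝒰.I₀ → G.left.affineOpens := fun j =>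
    ⟨(𝒰.f j).opensRange, isAffineOpen_opensRange (𝒰.f j)⟩
  have hU : ⨆ j, (U j).1 = ⊤ := 𝒰.iSup_opensRange
  haveI : Fintype 𝒰.I₀ := Fintype.ofFinite _
  have hmax : ∀ j, ∃ C : S, ∀ D : S, C.1 ≤ D.1 → (i D).left.ker.ideal (U j) = (i C).left.ker.ideal (U j) := by
    intro j
    haveI : IsNoetherianRing Γ(G.left, (U j).1) := IsLocallyNoetherian.component_noetherian _
    obtain ⟨_, ⟨C, rfl⟩, hC⟩ := set_has_maximal_iff_noetherian.mpr (inferInstance : IsNoetherian Γ(G.left, (U j).1) Γ(G.left, (U j).1))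
      (Set.range fun C : S => (i C).left.ker.ideal (U j)) ⟨_, ⟨S₀, rfl⟩⟩
    exact ⟨C, fun D hD => ((hmono C D hD (U j)).eq_of_not_lt (hC _ ⟨D, rfl⟩)).symm⟩
  choose Cj hCj using hmax
  obtain ⟨C₀, hC₀⟩ := hsup (Finset.univ.image Cj)
  have hstab : ∀ D : S, C₀.1 ≤ D.1 → (i D).left.ker = (i C₀).left.ker := by
    intro D hD
    refine Scheme.IdealSheafData.ext_of_iSup_eq_top U hU fun j => ?_
    have h0 : (Cj j).1 ≤ C₀.1 := hC₀ _ (Finset.mem_image_of_mem _ (Finset.mem_univ j))
    rw [hCj j D (h0.trans hD), hCj j C₀ h0]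
  -- the maximal finitely generated sub-Hopf-algebra is everything
  have htop : C₀.1 = ⊤ := by
    rw [eq_top_iff]
    intro x _
    obtain ⟨E, hE1, hE2, hxE⟩ := HopfPts.exists_fg_of_finite (k := k) ({x} : Set A) (Set.finite_singleton x)
    let D : S := ⟨C₀.1 ⊔ E, HopfPts.isHopf_sup C₀.2.1 hE1, C₀.2.2.sup hE2⟩
    have hle : C₀.1 ≤ D.1 := le_sup_left
    obtain ⟨t, ht, hpt, htl⟩ := htr C₀ D hle
    haveI : IsIso t := isIso_of_kernel_le (hcov D) (hcov C₀) t hpt fun {T} z h1 => by
      obtain ⟨w, hw⟩ := hlift C₀ z h1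
      haveI := hiC C₀
      haveI := hiC D
      let l := IsClosedImmersion.lift (i D).left (i C₀).left (hstab D hle).le
      have hl : l ≫ (i D).left = (i C₀).left := IsClosedImmersion.lift_fac _ _ _
      let l' : N C₀ ⟶ N D := Over.homMk l (by rw [← Over.w (i D), reassoc_of% hl, Over.w])
      have hl' : l' ≫ i D = i C₀ := Over.OverMorphism.ext hl
      rw [← hw, ← hl', Category.assoc, Category.assoc, hi1 D, MonObj.comp_one, MonObj.comp_one]
    haveI : IsIso t.left := inferInstanceAs (IsIso ((Over.forget _).map t))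
    let φ : CommRingCat.of C₀.1 ⟶ CommRingCat.of D.1 := CommRingCat.ofHom (Subalgebra.inclusion hle).toRingHom
    haveI : IsIso (Scheme.Spec.map φ.op) := by
      show IsIso (Spec.map φ)
      rw [show Spec.map φ = t.left from htl.symm]
      infer_instance
    haveI : IsIso φ.op := isIso_of_fully_faithful Scheme.Spec φ.op
    haveI : IsIso φ := isIso_of_op φ
    have hbij : Function.Bijective (Subalgebra.inclusion hle) :=
      (ConcreteCategory.isIso_iff_bijective φ).mp inferInstance
    obtain ⟨c, hc⟩ := hbij.2 ⟨x, (le_sup_right : E ≤ D.1) (hxE rfl)⟩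
    have := congrArg Subtype.val hc
    show x ∈ C₀.1
    rw [← show (c : A) = x from this]
    exact c.2
  haveI : IsIso (specHom (inc C₀)) := by
    haveI : IsIso (CommRingCat.ofHom (inc C₀ : C₀.1 →+* A)) := by
      rw [ConcreteCategory.isIso_iff_bijective]
      exact ⟨Subtype.val_injective, fun x => ⟨⟨x, htop ▸ Algebra.mem_top⟩, rfl⟩⟩
    haveI : IsIso ((Over.forget Sk).map (specHom (inc C₀))) := by
      show IsIso (Spec.map (CommRingCat.ofHom (inc C₀ : C₀.1 →+* A)))
      infer_instance
    exact isIso_of_reflects_iso _ (Over.forget Sk)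
  let ψ := e.symm ≪≫ asIso (specHom (inc C₀))
  have hψ : toHull G = p C₀ ≫ ψ.inv := by simp [ψ, p, a]
  haveI := hft C₀
  haveI : IsIso ψ.inv.left := inferInstanceAs (IsIso ((Over.forget _).map ψ.inv))
  haveI : IsIso ψ.hom.left := inferInstanceAs (IsIso ((Over.forget _).map ψ.hom))
  refine ⟨?_, ?_⟩
  · rw [hψ]
    exact (hcov C₀).comp ⟨inferInstance, inferInstance, inferInstance⟩
  · rw [← Over.w ψ.hom]
    infer_instance

end Groth.Agent.GrpAff
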