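import Groth.Agent.GrpScheme.QuasiAffine
import Groth.Agent.GrpdLib.GrpOver

/-!
# The affine hull of a quasi-compact group scheme over a field is a group scheme
-/

set_option autoImplicit false
set_option linter.style.haveILetI false

universe u

open CategoryTheory MonoidalCategory CartesianMonoidalCategory MonObj GrpObj AlgebraicGeometry Limits

noncomputable section

namespace Groth.Agent.GrpAff

open GrpScheme.QuasiAffine

variable {k : Type u} [Field k] (G : Over (Spec (CommRingCat.of k)))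

local notation "Sk" => Spec (CommRingCat.of k)

/-- The affine hull `Spec Γ(G)`. -/
def hull : Over (Spec (CommRingCat.of k)) :=
  Over.mk (Spec.map ((Scheme.ΓSpecIso (CommRingCat.of k)).inv ≫ G.hom.appTop))

instance : IsAffine (hull G).left := inferInstanceAs (IsAffine (Spec Γ(G.left, ⊤)))

/-- The canonical map to the affine hull. -/
def toHull : G ⟶ hull G :=
  Over.homMk G.left.toSpecΓ (by
    simp only [hull, Over.mk_hom]
    rw [Spec.map_comp, ← Scheme.toSpecΓ_naturality_assoc, toSpecΓ_SpecMap_ΓSpecIso_inv,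
      Category.comp_id])

@[simp] lemma toHull_left : (toHull G).left = G.left.toSpecΓ := rfl

lemma hull_hom_eq : (hull G).hom = Spec.map G.hom.appTop ≫ (Spec (CommRingCat.of k)).isoSpec.inv := by
  rw [show (Spec (CommRingCat.of k)).isoSpec.inv = Spec.map (Scheme.ΓSpecIso (CommRingCat.of k)).inv by
    simp [Scheme.isoSpec_Spec_inv], ← Spec.map_comp]
  rfl

instance : IsIso (toHull G).left.appTop := by
  show IsIso G.left.toSpecΓ.appTop
  rw [Scheme.toSpecΓ_appTop]
  infer_instance

instance : CompactSpace (hull G).left := inferInstanceAs (CompactSpace (Spec Γ(G.left, ⊤)))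

instance (X : Over Sk) [IsAffine X.left] : QuasiSeparated X.hom :=
  inferInstance

lemma compactSpace_tensor (X Y : Over (Spec (CommRingCat.of k))) [CompactSpace X.left] [CompactSpace Y.left] :
    CompactSpace (X ⊗ Y).left := by
  haveI : QuasiCompact Y.hom := (quasiCompact_iff_compactSpace Y.hom).2 inferInstance
  haveI := quasiCompact_fst X Y
  exact QuasiCompact.compactSpace_of_compactSpace (fst X Y).left

lemma quasiSeparated_tensor (X Y : Over (Spec (CommRingCat.of k))) [QuasiSeparated X.hom] [QuasiSeparated Y.hom] :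
    QuasiSeparated (X ⊗ Y).hom :=
  inferInstanceAs (QuasiSeparated (pullback.fst X.hom Y.hom ≫ X.hom))

variable [GrpObj G] [QuasiCompact G.hom]

instance : CompactSpace G.left := (quasiCompact_iff_compactSpace G.hom).1 inferInstance

instance quasiSeparated_grp : QuasiSeparated G.hom :=
  haveI := GrpdLib.GrpOver.isSeparated_hom G
  inferInstance

instance : IsIso (toHull G ⊗ₘ toHull G).left.appTop := isIso_appTop_tensorHom _ _

instance (X : Over Sk) : IsIso (𝟙 X : X ⟶ X).left.appTop := by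
  rw [Over.id_left, Scheme.Hom.id_appTop]; infer_instance

omit [GrpObj G] [QuasiCompact G.hom] in
lemma isAffine_hull₂ : IsAffine (hull G ⊗ hull G).left := isAffine_tensor _ _

/-- The group structure of the affine hull. -/
instance grpObjHull : GrpObj (hull G) := by
  haveI := isAffine_hull₂ G
  haveI := compactSpace_tensor G G
  haveI := quasiSeparated_tensor G G
  haveI := quasiSeparated_tensor (hull G) (hull G)
  haveI : CompactSpace (hull G ⊗ hull G).left := compactSpace_tensor _ _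
  haveI : IsIso ((toHull G ⊗ₘ toHull G) ⊗ₘ toHull G).left.appTop := isIso_appTop_tensorHom _ _
  haveI : IsIso (𝟙 (𝟙_ (Over Sk)) ⊗ₘ toHull G).left.appTop := by
    haveI : CompactSpace (𝟙_ (Over Sk)).left := inferInstanceAs (CompactSpace Sk)
    haveI : QuasiSeparated (𝟙_ (Over Sk)).hom := inferInstanceAs (QuasiSeparated (𝟙 Sk))
    exact isIso_appTop_tensorHom _ _
  haveI : IsIso (toHull G ⊗ₘ 𝟙 (𝟙_ (Over Sk))).left.appTop := by
    haveI : CompactSpace (𝟙_ (Over Sk)).left := inferInstanceAs (CompactSpace Sk)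
    haveI : QuasiSeparated (𝟙_ (Over Sk)).hom := inferInstanceAs (QuasiSeparated (𝟙 Sk))
    exact isIso_appTop_tensorHom _ _
  let j := toHull G
  let m : hull G ⊗ hull G ⟶ hull G := extend (j ⊗ₘ j) (μ[G] ≫ j)
  have hm : (j ⊗ₘ j) ≫ m = μ[G] ≫ j := comp_extend _ _
  let i : hull G ⟶ hull G := extend j (ι[G] ≫ j)
  have hi : j ≫ i = ι[G] ≫ j := comp_extend _ _
  exact
  { one := η[G] ≫ j
    mul := m
    one_mul := by
      refine hom_ext (𝟙 (𝟙_ (Over Sk)) ⊗ₘ toHull G) ?_
      show (𝟙 _ ⊗ₘ j) ≫ ((η[G] ≫ j) ▷ hull G) ≫ m = (𝟙 _ ⊗ₘ j) ≫ (λ_ _).hom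
      rw [← tensorHom_id, tensorHom_comp_tensorHom_assoc, Category.id_comp, Category.comp_id,
        show (η[G] ≫ j) ⊗ₘ j = (η[G] ▷ G) ≫ (j ⊗ₘ j) by rw [← tensorHom_id, tensorHom_comp_tensorHom, Category.id_comp],
        Category.assoc, hm, MonObj.one_mul_assoc, id_tensorHom, leftUnitor_naturality]
    mul_one := by
      refine hom_ext (toHull G ⊗ₘ 𝟙 (𝟙_ (Over Sk))) ?_
      show (j ⊗ₘ 𝟙 _) ≫ (hull G ◁ (η[G] ≫ j)) ≫ m = (j ⊗ₘ 𝟙 _) ≫ (ρ_ _).hom
      rw [← id_tensorHom, tensorHom_comp_tensorHom_assoc, Category.id_comp, Category.comp_id,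
        show j ⊗ₘ (η[G] ≫ j) = (G ◁ η[G]) ≫ (j ⊗ₘ j) by rw [← id_tensorHom, tensorHom_comp_tensorHom, Category.id_comp],
        Category.assoc, hm, MonObj.mul_one_assoc, tensorHom_id, rightUnitor_naturality]
    mul_assoc := by
      refine hom_ext ((toHull G ⊗ₘ toHull G) ⊗ₘ toHull G) ?_
      show ((j ⊗ₘ j) ⊗ₘ j) ≫ (m ▷ hull G) ≫ m =
        ((j ⊗ₘ j) ⊗ₘ j) ≫ (α_ _ _ _).hom ≫ (hull G ◁ m) ≫ m
      rw [← tensorHom_id, tensorHom_comp_tensorHom_assoc, hm, Category.comp_id,
        associator_naturality_assoc, ← id_tensorHom, tensorHom_comp_tensorHom_assoc, hm, Category.comp_id,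
        show (μ[G] ≫ j) ⊗ₘ j = (μ[G] ▷ G) ≫ (j ⊗ₘ j) by rw [← tensorHom_id, tensorHom_comp_tensorHom, Category.id_comp],
        show j ⊗ₘ (μ[G] ≫ j) = (G ◁ μ[G]) ≫ (j ⊗ₘ j) by rw [← id_tensorHom, tensorHom_comp_tensorHom, Category.id_comp]]
      simp only [Category.assoc, hm, MonObj.mul_assoc_assoc]
    inv := i
    left_inv := by
      refine hom_ext (toHull G) ?_
      show j ≫ lift i (𝟙 _) ≫ m = j ≫ toUnit _ ≫ η[G] ≫ j
      rw [comp_lift_assoc, hi, Category.comp_id, show lift (ι[G] ≫ j) j = lift ι[G] (𝟙 G) ≫ (j ⊗ₘ j) by rw [lift_map, Category.id_comp],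
        Category.assoc, hm]
      simp
    right_inv := by
      refine hom_ext (toHull G) ?_
      show j ≫ lift (𝟙 _) i ≫ m = j ≫ toUnit _ ≫ η[G] ≫ j
      rw [comp_lift_assoc, hi, Category.comp_id, show lift j (ι[G] ≫ j) = lift (𝟙 G) ι[G] ≫ (j ⊗ₘ j) by rw [lift_map, Category.id_comp],
        Category.assoc, hm]
      simp }

instance isMonHom_toHull : IsMonHom (toHull G) where
  one_hom := rfl
  mul_hom := by
    symm
    exact comp_extend (toHull G ⊗ₘ toHull G) (μ[G] ≫ toHull G)

end Groth.Agent.GrpAff
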