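import Groth.Agent.GrpAff.FaithfullyFlat

/-!
# The kernel of the map to the affine hull has only constant functions
-/

set_option autoImplicit false
set_option linter.style.haveILetI false
set_option backward.isDefEq.respectTransparency false

universe u

open CategoryTheory MonoidalCategory CartesianMonoidalCategory MonObj GrpObj AlgebraicGeometry Limits

noncomputable section

namespace Groth.Agent.GrpAff

open GrpScheme.QuasiAffine

variable {k : Type u} [Field k]

local notation "Sk" => Spec (CommRingCat.of k)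

/-- Functions on `G ×_H G`, `H` the affine hull, are functions on `G`. -/
theorem isIso_appTop_of_isPullback (G : Over (Spec (CommRingCat.of k))) [GrpObj G] [LocallyOfFiniteType G.hom]
    [QuasiCompact G.hom] {P : Over (Spec (CommRingCat.of k))} {a b : P ⟶ G}
    (H : IsPullback a b (toHull G) (toHull G)) : IsIso a.left.appTop := by
  haveI : Flat (toHull G).left := (cover_toHull G).1.flat
  have H' : IsPullback a.left b.left (toHull G).left (toHull G).left := GrpdLib.GrpOver.isPullback_left H
  have e : ∀ {A B : Scheme.{u}} (f : A ⟶ B), f.appLE ⊤ ⊤ le_rfl = f.appTop := fun f => f.appLE_eq_app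
  have hqs : IsQuasiSeparated ((⊤ : G.left.Opens) : Set G.left) := qs_univ G.hom
  have hf : ((toHull G).left.appLE ⊤ ⊤ (le_refl _)).hom.Flat := by
    rw [e]
    exact RingHom.Flat.of_bijective ((ConcreteCategory.isIso_iff_bijective _).mp inferInstance)
  have := isIso_pushoutSection_of_isCompact_of_flat_right_of_ringHomFlat H' (US := ⊤) (UT := ⊤)
    (UX := ⊤) (UY := ⊤) (le_refl _) (le_refl _) (by simp) (isAffineOpen_top _) isCompact_univ
    hqs isCompact_univ hqs hf
  have h := (isIso_pushoutSection_iff H' (US := ⊤) (UT := ⊤) (UX := ⊤) (UY := ⊤) (le_refl _)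
    (le_refl _) (by simp)).1 this
  simp only [e] at h
  exact h.isIso_inl_of_isIso

/-- The kernel of the map to the affine hull, with its group structure. -/
theorem exists_antiAffine_kernel (G : Over (Spec (CommRingCat.of k))) [GrpObj G] [LocallyOfFiniteType G.hom]
    [QuasiCompact G.hom] :
    ∃ (N : Over Sk) (_ : GrpObj N) (i : N ⟶ G), IsMonHom i ∧ IsClosedImmersion i.left ∧
      IsPullback i.left (toUnit N).left G.left.toSpecΓ (η[G].left ≫ G.left.toSpecΓ) ∧
      IsIso N.hom.appTop := by
  haveI : IsSeparated G.hom := GrpdLib.GrpOver.isSeparated_hom G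
  haveI : IsSeparated (hull G).hom := inferInstance
  obtain ⟨N, hN, i, hi, hmono, hci, hi1, hlift⟩ := UnipLib.exists_kernel_grp (toHull G)
  have hη : η[hull G] = η[G] ≫ toHull G := (IsMonHom.one_hom (toHull G)).symm
  have hpb : IsPullback i (toUnit N) (toHull G) η[hull G] := by
    refine IsPullback.of_isLimit' ⟨hi1.trans Hom.one_def⟩ (PullbackCone.IsLimit.mk _
      (fun c => (hlift c.fst (by rw [c.condition, toUnit_unique c.snd (toUnit _), Hom.one_def])).choose)
      (fun c => ?_) (fun c => toUnit_unique _ _) (fun c m h₁ h₂ => ?_))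
    · exact (hlift c.fst (by rw [c.condition, toUnit_unique c.snd (toUnit _), Hom.one_def])).choose_spec
    · rw [← cancel_mono i, h₁]
      exact (hlift c.fst (by rw [c.condition, toUnit_unique c.snd (toUnit _), Hom.one_def])).choose_spec.symm
  refine ⟨N, hN, i, hi, hci, ?_, ?_⟩
  · have h := GrpdLib.GrpOver.isPullback_left hpb
    rw [hη] at h
    exact h
  have hG : IsPullback (fst G N) (fst G N * (snd G N ≫ i)) (toHull G) (toHull G) := by
    have hk : ∀ c : PullbackCone (toHull G) (toHull G), (c.fst⁻¹ * c.snd) ≫ toHull G = 1 := fun c => by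
      rw [MonObj.mul_comp, GrpObj.inv_comp, c.condition, inv_mul_cancel]
    refine IsPullback.of_isLimit' ⟨?_⟩ (PullbackCone.IsLimit.mk _
      (fun c => lift c.fst (hlift _ (hk c)).choose) (fun c => lift_fst _ _) (fun c => ?_) (fun c m h₁ h₂ => ?_))
    · rw [MonObj.mul_comp, Category.assoc, hi1, MonObj.comp_one, _root_.mul_one]
    · rw [MonObj.comp_mul, lift_fst, lift_snd_assoc, (hlift _ (hk c)).choose_spec, mul_inv_cancel_left]
    · refine CartesianMonoidalCategory.hom_ext _ _ (by rw [lift_fst, h₁]) ?_
      rw [lift_snd, ← cancel_mono i, (hlift _ (hk c)).choose_spec, ← h₁, ← h₂, MonObj.comp_mul,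
        inv_mul_cancel_left, Category.assoc]
  haveI := isIso_appTop_of_isPullback G hG
  let r : N ⟶ G ⊗ N := lift (toUnit N ≫ η[G]) (𝟙 N)
  have h1 : (snd G N).left.appTop ≫ r.left.appTop = 𝟙 _ := by
    rw [← Scheme.Hom.comp_appTop, ← Over.comp_left, lift_snd, Over.id_left, Scheme.Hom.id_appTop]
  have h2 : (fst G N).left.appTop ≫ r.left.appTop = η[G].left.appTop ≫ N.hom.appTop := by
    rw [← Scheme.Hom.comp_appTop, ← Over.comp_left, lift_fst, Over.comp_left, Scheme.Hom.comp_appTop]
    rfl
  have h3 : ((snd G N).left.appTop ≫ inv (fst G N).left.appTop ≫ η[G].left.appTop) ≫ N.hom.appTop = 𝟙 _ := by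
    simp only [Category.assoc]
    rw [← h2, IsIso.inv_hom_id_assoc, h1]
  have h4 : N.hom.appTop ≫ η[N].left.appTop = 𝟙 _ := by
    rw [← Scheme.Hom.comp_appTop, Over.w η[N]]
    exact Scheme.Hom.id_appTop
  haveI : IsSplitEpi N.hom.appTop := IsSplitEpi.mk' ⟨_, h3⟩
  haveI : IsSplitMono N.hom.appTop := IsSplitMono.mk' ⟨_, h4⟩
  exact isIso_of_mono_of_isSplitEpi _

end Groth.Agent.GrpAff
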